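import Groth.Agent.RSpLib.PullStalk
import Mathlib

/-!
# Flatness of the map to an adic limit, and of stalk maps from flatness on a basis
-/

universe u

open CategoryTheory TopologicalSpace Opposite

set_option backward.isDefEq.respectTransparency false

namespace Groth.Agent.CompFlat

/-- A ring which is the limit of `A / J^(n+1)` is flat over the Noetherian ring `A`. -/
theorem flat_of_limit {A : Type u} [CommRing A] [IsNoetherianRing A] (J : Ideal A)
    (B : ℕ → Type u) [∀ n, CommRing (B n)] (q : ∀ n, A →+* B n)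
    (hq : ∀ n, Function.Surjective (q n)) (hker : ∀ n, RingHom.ker (q n) = J ^ (n + 1))
    (t : ∀ n, B (n + 1) →+* B n) (ht : ∀ n a, t n (q (n + 1) a) = q n a)
    {S : Type u} [CommRing S] (φ : A →+* S) (π : ∀ n, S →+* B n)
    (hπφ : ∀ n a, π n (φ a) = q n a)
    (hπt : ∀ n s, t n (π (n + 1) s) = π n s)
    (hinj : ∀ s s', (∀ n, π n s = π n s') → s = s')
    (hlift : ∀ b : ∀ n, B n, (∀ n, t n (b (n + 1)) = b n) → ∃ s, ∀ n, π n s = b n) :
    φ.Flat := by
  letI : Algebra A S := φ.toAlgebra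
  let qb : ∀ n, (A ⧸ J ^ (n + 1)) →+* B n := fun n => Ideal.Quotient.lift _ (q n)
    (fun a ha => by rw [← hker n] at ha; exact ha)
  have hqb : ∀ n a, qb n (Ideal.Quotient.mk _ a) = q n a := fun n a => rfl
  have hqbinj : ∀ n, Function.Injective (qb n) := fun n => by
    rw [injective_iff_map_eq_zero]
    intro z hz
    obtain ⟨a, rfl⟩ := Ideal.Quotient.mk_surjective z
    rw [hqb, ← RingHom.mem_ker, hker] at hz
    exact Ideal.Quotient.eq_zero_iff_mem.2 hz
  have hev : ∀ (n : ℕ) (x : AdicCompletion J A) (a : A),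
      AdicCompletion.evalₐ J (n + 1 + 1) x = Ideal.Quotient.mk _ a →
        AdicCompletion.evalₐ J (n + 1) x = Ideal.Quotient.mk _ a := by
    intro n x a ha
    induction x using AdicCompletion.induction_on with
    | h c =>
      rw [AdicCompletion.evalₐ_mk] at ha ⊢
      rw [← AdicCompletion.Ideal.mk_eq_mk (I := J) (Nat.le_succ (n + 1)) c]
      exact congrArg (Ideal.Quotient.factor (Ideal.pow_le_pow_right (Nat.le_succ (n + 1)))) ha
  have hb : ∀ x : AdicCompletion J A, ∀ n,
      t n (qb (n + 1) (AdicCompletion.evalₐ J (n + 1 + 1) x)) =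
        qb n (AdicCompletion.evalₐ J (n + 1) x) := by
    intro x n
    obtain ⟨a, ha⟩ := Ideal.Quotient.mk_surjective (AdicCompletion.evalₐ J (n + 1 + 1) x)
    rw [hev n x a ha.symm, ← ha, hqb, hqb, ht]
  choose Ψ hΨ using fun x : AdicCompletion J A =>
    hlift (fun n => qb n (AdicCompletion.evalₐ J (n + 1) x)) (hb x)
  let L : AdicCompletion J A →ₗ[A] S :=
    { toFun := Ψ
      map_add' := fun x y => hinj _ _ fun n => by rw [map_add, hΨ, hΨ, hΨ, map_add, map_add]
      map_smul' := fun a x => hinj _ _ fun n => by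
        rw [RingHom.id_apply, Algebra.smul_def a (Ψ x), map_mul, hΨ, hΨ, map_smul]
        show qb n (a • _) = π n (φ a) * _
        rw [hπφ, Algebra.smul_def, map_mul, ← hqb]
        rfl }
  have hLi : Function.Injective L := by
    intro x y hxy
    refine AdicCompletion.ext_evalₐ fun n => ?_
    rcases n with _ | n
    · haveI : Subsingleton (A ⧸ J ^ 0) := Ideal.Quotient.subsingleton_iff.2 (by simp)
      exact Subsingleton.elim _ _
    · refine hqbinj n ?_
      rw [← hΨ x n, ← hΨ y n]
      exact congrArg (π n) hxy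
  have hLs : Function.Surjective L := by
    intro s
    choose a ha using fun n => hq n (π n s)
    have hcomp : ∀ n, a (n + 1) - a n ∈ J ^ (n + 1) := fun n => by
      rw [← hker, RingHom.mem_ker, map_sub, ← ht n (a (n + 1)), ha, hπt, ha, sub_self]
    have hc : ∀ n, a n ≡ a (n + 1) [SMOD J ^ n • (⊤ : Submodule A A)] := fun n => by
      rw [smul_eq_mul, Ideal.mul_top, SModEq.sub_mem]
      have := (J ^ n).neg_mem (Ideal.pow_le_pow_right (Nat.le_succ n) (hcomp n))
      rwa [neg_sub] at this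
    let c : AdicCompletion.AdicCauchySequence J A := AdicCompletion.AdicCauchySequence.mk J A a hc
    refine ⟨AdicCompletion.mk J A c, hinj _ _ fun n => ?_⟩
    show π n (Ψ _) = _
    rw [hΨ]
    show qb n (AdicCompletion.evalₐ J (n + 1) (AdicCompletion.mk J A c)) = π n s
    rw [AdicCompletion.evalₐ_mk]
    show qb n (Ideal.Quotient.mk _ (a (n + 1))) = π n s
    rw [hqb, ← ha n, ← sub_eq_zero, ← map_sub, ← RingHom.mem_ker, hker]
    exact hcomp n
  show Module.Flat A S
  exact Module.Flat.of_linearEquiv (LinearEquiv.ofBijective L ⟨hLi, hLs⟩).symm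

variable {X Y : TopCat.{u}}

open RSpLib in
/-- Flatness of the stalk maps from flatness on sections over a cofinal family of opens. -/
theorem stalk_flat (f : X ⟶ Y) {O : TopCat.Sheaf CommRingCat.{u} X} {O' : TopCat.Sheaf CommRingCat.{u} Y}
    (c : O' ⟶ ((Opens.map f).sheafPushforwardContinuous CommRingCat.{u}
      (Opens.grothendieckTopology Y) (Opens.grothendieckTopology X)).obj O) (x : X)
    (h : ∀ (V : Opens X) (W : Opens Y), x ∈ V → f x ∈ W → ∃ U : Opens Y, f x ∈ U ∧ U ≤ W ∧
      (Opens.map f).obj U ≤ V ∧ (c.hom.app (op U)).hom.Flat) :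
    (rstkMap f c x).hom.Flat := by
  classical
  letI := (rstkMap f c x).hom.toAlgebra
  show Module.Flat (rstk O' (f x)) (rstk O x)
  refine Module.Flat.iff_forall_isTrivialRelation.2 fun {l} r s hrs => ?_
  choose W hW a ha using fun j => TopCat.Presheaf.exists_germ_eq (F := O'.obj) (r j)
  choose V hV b hb using fun j => TopCat.Presheaf.exists_germ_eq (F := O.obj) (s j)
  let W0 : Opens Y := Finset.univ.inf W
  let V0 : Opens X := Finset.univ.inf V
  have hW0 : f x ∈ W0 := by
    simp only [W0, ← SetLike.mem_coe, TopologicalSpace.Opens.coe_finset_inf]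
    simpa using fun i => hW i
  have hV0 : x ∈ V0 := by
    simp only [V0, ← SetLike.mem_coe, TopologicalSpace.Opens.coe_finset_inf]
    simpa using fun i => hV i
  have hWle : ∀ j, W0 ≤ W j := fun j => Finset.inf_le (Finset.mem_univ j)
  have hVle : ∀ j, V0 ⊓ (Opens.map f).obj W0 ≤ V j := fun j =>
    inf_le_left.trans (Finset.inf_le (Finset.mem_univ j))
  let V1 : Opens X := V0 ⊓ (Opens.map f).obj W0
  let a1 : ∀ j, O'.obj.obj (op W0) := fun j => O'.obj.map (homOfLE (hWle j)).op (a j)
  let b1 : ∀ j, O.obj.obj (op V1) := fun j => O.obj.map (homOfLE (hVle j)).op (b j)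
  let ca : ∀ j, O.obj.obj (op V1) := fun j =>
    O.obj.map (homOfLE (inf_le_right : V1 ≤ (Opens.map f).obj W0)).op
      ((c.hom.app (op W0)).hom (a1 j))
  have hV1 : x ∈ V1 := ⟨hV0, hW0⟩
  have hgb : ∀ j, TopCat.Presheaf.germ O.obj V1 x hV1 (b1 j) = s j := fun j => by
    rw [← hb j]; exact TopCat.Presheaf.germ_res_apply _ _ _ _ _
  have hgc : ∀ j, TopCat.Presheaf.germ O.obj V1 x hV1 (ca j) = (rstkMap f c x).hom (r j) := fun j => by
    rw [show r j = TopCat.Presheaf.germ O'.obj W0 (f x) hW0 (a1 j) from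
      ((TopCat.Presheaf.germ_res_apply O'.obj (homOfLE (hWle j)) (f x) hW0 (a j)).trans (ha j)).symm,
      rstkMap_germ]
    exact TopCat.Presheaf.germ_res_apply _ _ _ _ _
  have h0 : TopCat.Presheaf.germ O.obj V1 x hV1 (∑ j, ca j * b1 j) =
      TopCat.Presheaf.germ O.obj V1 x hV1 0 := by
    rw [map_sum, map_zero]
    simp only [map_mul, hgb, hgc]
    exact hrs
  obtain ⟨V2, hV2, i2, i2', h2⟩ := TopCat.Presheaf.germ_eq O.obj x hV1 hV1 _ _ h0
  obtain ⟨U, hU, hUW, hUV, hflat⟩ := h V2 W0 hV2 hW0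
  letI : Algebra (O'.obj.obj (op U)) (O.obj.obj (op ((Opens.map f).obj U))) :=
    (c.hom.app (op U)).hom.toAlgebra
  haveI : Module.Flat (O'.obj.obj (op U)) (O.obj.obj (op ((Opens.map f).obj U))) := hflat
  have hUV1 : (Opens.map f).obj U ≤ V1 := hUV.trans (leOfHom i2)
  let a2 : Fin l → O'.obj.obj (op U) := fun j => O'.obj.map (homOfLE hUW).op (a1 j)
  let b2 : Fin l → O.obj.obj (op ((Opens.map f).obj U)) := fun j =>
    O.obj.map (homOfLE hUV1).op (b1 j)
  have hca : ∀ j, (c.hom.app (op U)).hom (a2 j) = O.obj.map (homOfLE hUV1).op (ca j) := fun j => by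
    refine (ConcreteCategory.congr_hom (c.hom.naturality (homOfLE hUW).op) (a1 j)).trans ?_
    exact ConcreteCategory.congr_hom (O.obj.map_comp (homOfLE (inf_le_right : V1 ≤ (Opens.map f).obj W0)).op
      (homOfLE hUV1).op) ((c.hom.app (op W0)).hom (a1 j))
  have h3 : ∑ j, a2 j • b2 j = 0 := by
    have h4 := congrArg (O.obj.map (homOfLE hUV).op) h2
    rw [← ConcreteCategory.comp_apply, ← Functor.map_comp, ← ConcreteCategory.comp_apply,
      ← Functor.map_comp] at h4
    rw [show i2.op ≫ (homOfLE hUV).op = (homOfLE hUV1).op from rfl,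
      show i2'.op ≫ (homOfLE hUV).op = (homOfLE hUV1).op from rfl, map_zero, map_sum] at h4
    rw [← h4]
    refine Finset.sum_congr rfl fun j _ => ?_
    rw [Algebra.smul_def, RingHom.algebraMap_toAlgebra, map_mul]
    exact congrArg (· * _) (hca j)
  obtain ⟨k, cc, y, hy, hc⟩ := Module.Flat.isTrivialRelation_of_sum_smul_eq_zero
    (R := O'.obj.obj (op U)) (f := a2) (x := b2) h3
  refine ⟨k, fun j m => TopCat.Presheaf.germ O'.obj U (f x) hU (cc j m),
    fun m => TopCat.Presheaf.germ O.obj ((Opens.map f).obj U) x hU (y m), fun j => ?_, fun m => ?_⟩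
  · rw [← hgb j]
    refine (TopCat.Presheaf.germ_res_apply O.obj (homOfLE hUV1) x hU (b1 j)).symm.trans ?_
    show TopCat.Presheaf.germ O.obj _ x hU (b2 j) = _
    rw [hy j, map_sum]
    refine Finset.sum_congr rfl fun m _ => ?_
    rw [Algebra.smul_def, RingHom.algebraMap_toAlgebra, map_mul, Algebra.smul_def,
      RingHom.algebraMap_toAlgebra, rstkMap_germ]
    rfl
  · rw [← map_zero (TopCat.Presheaf.germ O'.obj U (f x) hU).hom, ← hc m, map_sum]
    refine Finset.sum_congr rfl fun j _ => ?_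
    rw [map_mul]
    congr 1
    exact ((TopCat.Presheaf.germ_res_apply O'.obj (homOfLE hUW) (f x) hU (a1 j)).trans
      ((TopCat.Presheaf.germ_res_apply O'.obj (homOfLE (hWle j)) (f x) hW0 (a j)).trans (ha j))).symm

end Groth.Agent.CompFlat
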