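import Groth.Agent.CompFlatLib.Basic
import Groth.Prelude.Def_FSch5

/-!
# The completion of a locally Noetherian scheme is flat over it
-/

universe u

open CategoryTheory CategoryTheory.Limits AlgebraicGeometry TopologicalSpace Opposite

set_option backward.isDefEq.respectTransparency false

namespace Groth.Agent.CompFlat

/-- Sections of the structure sheaf of a formal system are compatible families of sections of the levels. -/
lemma osh_existsUnique (𝔛 : FSch.Sys.{u}) (h : 𝔛.IsFormal) (V : (𝔛.X 0).Opens)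
    (b : ∀ n, Γ(𝔛.X n, 𝔛.lvU h n V))
    (hb : ∀ n, ((𝔛.ι n).appLE (𝔛.lvU h (n + 1) V) (𝔛.lvU h n V) (𝔛.lvU_le h n V)).hom (b (n + 1)) = b n) :
    ∃! z : (𝔛.Osh h).obj.obj (op V), ∀ n, ((𝔛.OshProj h n).hom.app (op V)).hom z = b n := by
  let E : Sheaf (Opens.grothendieckTopology (𝔛.X 0)) CommRingCat.{u} ⥤ CommRingCat.{u} :=
    sheafToPresheaf _ _ ⋙ (CategoryTheory.evaluation _ _).obj (op V)
  let F : ℕᵒᵖ ⥤ Type u := 𝔛.levelRing h ⋙ E ⋙ forget CommRingCat.{u}
  have hlim : IsLimit ((E ⋙ forget CommRingCat.{u}).mapCone (limit.cone (𝔛.levelRing h))) :=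
    isLimitOfPreserves _ (limit.isLimit _)
  have hsec : (fun j : ℕᵒᵖ => b j.unop) ∈ F.sections := by
    rintro ⟨k⟩ ⟨j⟩ g
    have hjk : j ≤ k := leOfHom g.unop
    obtain rfl : g = (homOfLE hjk).op := Subsingleton.elim _ _
    induction k, hjk using Nat.le_induction with
    | base =>
      rw [show (homOfLE (le_refl j)).op = 𝟙 (op j) from rfl, F.map_id]; rfl
    | succ k hk ih =>
      rw [show (homOfLE (hk.trans (Nat.le_succ k))).op =
        (homOfLE (Nat.le_add_right k 1)).op ≫ (homOfLE hk).op from rfl, F.map_comp]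
      refine Eq.trans (congrArg (F.map (homOfLE hk).op) ?_) ih
      show ((𝔛.levelRing h).map (homOfLE (Nat.le_add_right k 1)).op).hom.app (op V) (b (k + 1)) = b k
      rw [𝔛.levelRing_map_succ h k]
      exact hb k
  obtain ⟨z, hz, huniq⟩ := (Types.isLimit_iff _).1 ⟨hlim⟩ _ hsec
  exact ⟨z, fun n => hz (op n), fun y hy => huniq y fun j => hy j.unop⟩

variable (X : Scheme.{u}) (𝓘 : X.IdealSheafData) (h : (FSch.completionAlong X 𝓘).IsFormal)

lemma section_flat [IsLocallyNoetherian X] (U : X.affineOpens) :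
    ((FSch.schSharp (FSch.completionAlong X 𝓘) h (FSch.completionToX X 𝓘)
      (FSch.completionToX_comm X 𝓘)).hom.app (op U.1)).hom.Flat := by
  let 𝔛 := FSch.completionAlong X 𝓘
  let p := FSch.completionToX X 𝓘
  let hp := FSch.completionToX_comm X 𝓘
  let V : (𝔛.X 0).Opens := p 0 ⁻¹ᵁ U.1
  haveI : IsNoetherianRing Γ(X, U.1) := IsLocallyNoetherian.component_noetherian U
  have heq : ∀ n, p n ⁻¹ᵁ U.1 = 𝔛.lvU h n V := fun n => FSch.lvU_p 𝔛 h p hp n U.1
  let q : ∀ n, Γ(X, U.1) →+* Γ(𝔛.X n, 𝔛.lvU h n V) := fun n =>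
    ((p n).appLE U.1 (𝔛.lvU h n V) (heq n).ge).hom
  have hqapp : ∀ n a, q n a =
      ((𝔛.X n).presheaf.map (eqToHom (heq n).symm).op).hom (((p n).app U.1).hom a) := fun n a => rfl
  have hbij : ∀ n, Function.Bijective ((𝔛.X n).presheaf.map (eqToHom (heq n).symm).op).hom :=
    fun n => ConcreteCategory.bijective_of_isIso _
  let t : ∀ n, Γ(𝔛.X (n + 1), 𝔛.lvU h (n + 1) V) →+* Γ(𝔛.X n, 𝔛.lvU h n V) := fun n =>
    ((𝔛.ι n).appLE (𝔛.lvU h (n + 1) V) (𝔛.lvU h n V) (𝔛.lvU_le h n V)).hom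
  let π : ∀ n, (𝔛.Osh h).obj.obj (op V) →+* Γ(𝔛.X n, 𝔛.lvU h n V) := fun n =>
    ((𝔛.OshProj h n).hom.app (op V)).hom
  refine flat_of_limit (𝓘.ideal U) (fun n => Γ(𝔛.X n, 𝔛.lvU h n V)) q
    (fun n => ?_) (fun n => ?_) t (fun n a => ?_) _ π (fun n a => ?_) (fun n s => ?_)
    (fun s s' hss => ?_) (fun b hb => ?_)
  · haveI : IsClosedImmersion (p n) := inferInstanceAs (IsClosedImmersion (𝓘 ^ (n + 1)).subschemeι)
    intro b
    obtain ⟨c, hc⟩ := (hbij n).2 b
    obtain ⟨a, ha⟩ := (p n).app_surjective U.1 U.2 c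
    exact ⟨a, by rw [hqapp]; exact (congrArg _ ha).trans hc⟩
  · have h1 : RingHom.ker (q n) = RingHom.ker ((p n).app U.1).hom := by
      ext a
      rw [RingHom.mem_ker, RingHom.mem_ker, hqapp]
      exact ⟨fun hz => (hbij n).1 (hz.trans (map_zero _).symm),
        fun hz => (congrArg _ hz).trans (map_zero _)⟩
    haveI : IsClosedImmersion (p n) := inferInstanceAs (IsClosedImmersion (𝓘 ^ (n + 1)).subschemeι)
    rw [h1, ← Scheme.Hom.ker_apply (p n) U, Scheme.IdealSheafData.ker_subschemeι,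
      Scheme.IdealSheafData.ideal_pow, Pi.pow_apply]
  · exact ConcreteCategory.congr_hom (FSch.appLE_comp_appLE_of_eq _ _ _ (hp n) U.1
      (𝔛.lvU h (n + 1) V) (𝔛.lvU h n V) (heq (n + 1)).ge (𝔛.lvU_le h n V) (heq n).ge) a
  · exact congr($(FSch.schSharp_proj 𝔛 h p hp n).hom.app (op U.1) a)
  · exact congr($(𝔛.OshProj_levelMap h n).hom.app (op V) s)
  · exact (osh_existsUnique 𝔛 h V (fun n => π n s) fun n =>
      congr($(𝔛.OshProj_levelMap h n).hom.app (op V) s)).unique (fun n => rfl) fun n => (hss n).symm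
  · exact (osh_existsUnique 𝔛 h V b hb).exists

theorem completion_flat [IsLocallyNoetherian X] :
    ModSite.RMor.IsFlat (FSch.toSchemeMor (FSch.completionAlong X 𝓘) h (FSch.completionToX X 𝓘)
      (FSch.completionToX_comm X 𝓘)) := by
  refine RSpLib.isFlat_of_stalks _ _ fun x => stalk_flat _ _ x fun V W hxV hxW => ?_
  haveI : IsClosedImmersion (FSch.completionToX X 𝓘 0) :=
    inferInstanceAs (IsClosedImmersion (𝓘 ^ (0 + 1)).subschemeι)
  obtain ⟨W', hW', hWV⟩ :=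
    (FSch.completionToX X 𝓘 0).isClosedEmbedding.isInducing.isOpen_iff.1 V.isOpen
  obtain ⟨U, hUaff, hxU, hUle⟩ := exists_isAffineOpen_mem_and_subset (X := X)
    (x := (FSch.completionToX X 𝓘 0).base x) (U := W ⊓ ⟨W', hW'⟩)
    ⟨hxW, by have : x ∈ ((V : Set _)) := hxV; rw [← hWV] at this; exact this⟩
  refine ⟨U, hxU, hUle.trans inf_le_left, fun y hy => ?_, section_flat X 𝓘 h ⟨U, hUaff⟩⟩
  show y ∈ (V : Set _)
  rw [← hWV]
  exact (hUle hy).2

end Groth.Agent.CompFlat
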